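import Cfsg.Agent.Lib.helper17.ONM.Cover.Lab

set_option autoImplicit false

/-! Part 1 of the test of the labels (generated, helper17) -/

namespace Cfsg.Agent.Lib.helper17.ONM

open Cfsg.Agent.Lib.Helper12.TC Cfsg.Agent.Lib.helper17.OnOut

theorem labQ_24 : rangeK labQ (Nat.mul 24 341) 341 = true := by decide +kernel

theorem labQ_25 : rangeK labQ (Nat.mul 25 341) 341 = true := by decide +kernel

theorem labQ_26 : rangeK labQ (Nat.mul 26 341) 341 = true := by decide +kernel

theorem labQ_27 : rangeK labQ (Nat.mul 27 341) 341 = true := by decide +kernel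

theorem labQ_28 : rangeK labQ (Nat.mul 28 341) 341 = true := by decide +kernel

theorem labQ_29 : rangeK labQ (Nat.mul 29 341) 341 = true := by decide +kernel

theorem labQ_30 : rangeK labQ (Nat.mul 30 341) 341 = true := by decide +kernel

theorem labQ_31 : rangeK labQ (Nat.mul 31 341) 341 = true := by decide +kernel

theorem labQ_32 : rangeK labQ (Nat.mul 32 341) 341 = true := by decide +kernel

theorem labQ_33 : rangeK labQ (Nat.mul 33 341) 341 = true := by decide +kernel

theorem labQ_34 : rangeK labQ (Nat.mul 34 341) 341 = true := by decide +kernel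

theorem labQ_35 : rangeK labQ (Nat.mul 35 341) 341 = true := by decide +kernel

theorem labQ_36 : rangeK labQ (Nat.mul 36 341) 341 = true := by decide +kernel

theorem labQ_37 : rangeK labQ (Nat.mul 37 341) 341 = true := by decide +kernel

theorem labQ_38 : rangeK labQ (Nat.mul 38 341) 341 = true := by decide +kernel

theorem labQ_39 : rangeK labQ (Nat.mul 39 341) 341 = true := by decide +kernel

theorem labQ_40 : rangeK labQ (Nat.mul 40 341) 341 = true := by decide +kernel

theorem labQ_41 : rangeK labQ (Nat.mul 41 341) 341 = true := by decide +kernel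

theorem labQ_42 : rangeK labQ (Nat.mul 42 341) 341 = true := by decide +kernel

theorem labQ_43 : rangeK labQ (Nat.mul 43 341) 341 = true := by decide +kernel

theorem labQ_44 : rangeK labQ (Nat.mul 44 341) 341 = true := by decide +kernel

theorem labQ_45 : rangeK labQ (Nat.mul 45 341) 341 = true := by decide +kernel

theorem labQ_46 : rangeK labQ (Nat.mul 46 341) 341 = true := by decide +kernel

theorem labQ_47 : rangeK labQ (Nat.mul 47 341) 341 = true := by decide +kernel

theorem labQ_part1 : ∀ q, 8184 ≤ q → q < 16368 → labQ q = true := by
  have h : ∀ i < 24, rangeK labQ (Nat.mul (24 + i) 341) 341 = true := by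
    intro i hi
    interval_cases i
    · exact labQ_24
    · exact labQ_25
    · exact labQ_26
    · exact labQ_27
    · exact labQ_28
    · exact labQ_29
    · exact labQ_30
    · exact labQ_31
    · exact labQ_32
    · exact labQ_33
    · exact labQ_34
    · exact labQ_35
    · exact labQ_36
    · exact labQ_37
    · exact labQ_38
    · exact labQ_39
    · exact labQ_40
    · exact labQ_41
    · exact labQ_42
    · exact labQ_43
    · exact labQ_44
    · exact labQ_45
    · exact labQ_46
    · exact labQ_47
  exact cover_part labQ 24 341 24 (by norm_num) h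

end Cfsg.Agent.Lib.helper17.ONM
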