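import Cfsg.Agent.Lib.helper17.ONM.Cover.Lab

set_option autoImplicit false

/-! Part 11 of the test of the labels (generated, helper17) -/

namespace Cfsg.Agent.Lib.helper17.ONM

open Cfsg.Agent.Lib.Helper12.TC Cfsg.Agent.Lib.helper17.OnOut

theorem labQ_264 : rangeK labQ (Nat.mul 264 341) 341 = true := by decide +kernel

theorem labQ_265 : rangeK labQ (Nat.mul 265 341) 341 = true := by decide +kernel

theorem labQ_266 : rangeK labQ (Nat.mul 266 341) 341 = true := by decide +kernel

theorem labQ_267 : rangeK labQ (Nat.mul 267 341) 341 = true := by decide +kernel

theorem labQ_268 : rangeK labQ (Nat.mul 268 341) 341 = true := by decide +kernel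

theorem labQ_269 : rangeK labQ (Nat.mul 269 341) 341 = true := by decide +kernel

theorem labQ_270 : rangeK labQ (Nat.mul 270 341) 341 = true := by decide +kernel

theorem labQ_271 : rangeK labQ (Nat.mul 271 341) 341 = true := by decide +kernel

theorem labQ_272 : rangeK labQ (Nat.mul 272 341) 341 = true := by decide +kernel

theorem labQ_273 : rangeK labQ (Nat.mul 273 341) 341 = true := by decide +kernel

theorem labQ_274 : rangeK labQ (Nat.mul 274 341) 341 = true := by decide +kernel

theorem labQ_275 : rangeK labQ (Nat.mul 275 341) 341 = true := by decide +kernel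

theorem labQ_276 : rangeK labQ (Nat.mul 276 341) 341 = true := by decide +kernel

theorem labQ_277 : rangeK labQ (Nat.mul 277 341) 341 = true := by decide +kernel

theorem labQ_278 : rangeK labQ (Nat.mul 278 341) 341 = true := by decide +kernel

theorem labQ_279 : rangeK labQ (Nat.mul 279 341) 341 = true := by decide +kernel

theorem labQ_280 : rangeK labQ (Nat.mul 280 341) 341 = true := by decide +kernel

theorem labQ_281 : rangeK labQ (Nat.mul 281 341) 341 = true := by decide +kernel

theorem labQ_282 : rangeK labQ (Nat.mul 282 341) 341 = true := by decide +kernel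

theorem labQ_283 : rangeK labQ (Nat.mul 283 341) 341 = true := by decide +kernel

theorem labQ_284 : rangeK labQ (Nat.mul 284 341) 341 = true := by decide +kernel

theorem labQ_285 : rangeK labQ (Nat.mul 285 341) 341 = true := by decide +kernel

theorem labQ_286 : rangeK labQ (Nat.mul 286 341) 341 = true := by decide +kernel

theorem labQ_287 : rangeK labQ (Nat.mul 287 341) 341 = true := by decide +kernel

theorem labQ_part11 : ∀ q, 90024 ≤ q → q < 98208 → labQ q = true := by
  have h : ∀ i < 24, rangeK labQ (Nat.mul (264 + i) 341) 341 = true := by
    intro i hi
    interval_cases i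
    · exact labQ_264
    · exact labQ_265
    · exact labQ_266
    · exact labQ_267
    · exact labQ_268
    · exact labQ_269
    · exact labQ_270
    · exact labQ_271
    · exact labQ_272
    · exact labQ_273
    · exact labQ_274
    · exact labQ_275
    · exact labQ_276
    · exact labQ_277
    · exact labQ_278
    · exact labQ_279
    · exact labQ_280
    · exact labQ_281
    · exact labQ_282
    · exact labQ_283
    · exact labQ_284
    · exact labQ_285
    · exact labQ_286
    · exact labQ_287
  exact cover_part labQ 264 341 24 (by norm_num) h

end Cfsg.Agent.Lib.helper17.ONM
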