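import Cfsg.Agent.Lib.helper17.ONM.Cover.Lab

set_option autoImplicit false

/-! Part 12 of the test of the labels (generated, helper17) -/

namespace Cfsg.Agent.Lib.helper17.ONM

open Cfsg.Agent.Lib.Helper12.TC Cfsg.Agent.Lib.helper17.OnOut

theorem labQ_288 : rangeK labQ (Nat.mul 288 341) 341 = true := by decide +kernel

theorem labQ_289 : rangeK labQ (Nat.mul 289 341) 341 = true := by decide +kernel

theorem labQ_290 : rangeK labQ (Nat.mul 290 341) 341 = true := by decide +kernel

theorem labQ_291 : rangeK labQ (Nat.mul 291 341) 341 = true := by decide +kernel

theorem labQ_292 : rangeK labQ (Nat.mul 292 341) 341 = true := by decide +kernel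

theorem labQ_293 : rangeK labQ (Nat.mul 293 341) 341 = true := by decide +kernel

theorem labQ_294 : rangeK labQ (Nat.mul 294 341) 341 = true := by decide +kernel

theorem labQ_295 : rangeK labQ (Nat.mul 295 341) 341 = true := by decide +kernel

theorem labQ_296 : rangeK labQ (Nat.mul 296 341) 341 = true := by decide +kernel

theorem labQ_297 : rangeK labQ (Nat.mul 297 341) 341 = true := by decide +kernel

theorem labQ_298 : rangeK labQ (Nat.mul 298 341) 341 = true := by decide +kernel

theorem labQ_299 : rangeK labQ (Nat.mul 299 341) 341 = true := by decide +kernel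

theorem labQ_300 : rangeK labQ (Nat.mul 300 341) 341 = true := by decide +kernel

theorem labQ_301 : rangeK labQ (Nat.mul 301 341) 341 = true := by decide +kernel

theorem labQ_302 : rangeK labQ (Nat.mul 302 341) 341 = true := by decide +kernel

theorem labQ_303 : rangeK labQ (Nat.mul 303 341) 341 = true := by decide +kernel

theorem labQ_304 : rangeK labQ (Nat.mul 304 341) 341 = true := by decide +kernel

theorem labQ_305 : rangeK labQ (Nat.mul 305 341) 341 = true := by decide +kernel

theorem labQ_306 : rangeK labQ (Nat.mul 306 341) 341 = true := by decide +kernel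

theorem labQ_307 : rangeK labQ (Nat.mul 307 341) 341 = true := by decide +kernel

theorem labQ_308 : rangeK labQ (Nat.mul 308 341) 341 = true := by decide +kernel

theorem labQ_309 : rangeK labQ (Nat.mul 309 341) 341 = true := by decide +kernel

theorem labQ_310 : rangeK labQ (Nat.mul 310 341) 341 = true := by decide +kernel

theorem labQ_311 : rangeK labQ (Nat.mul 311 341) 341 = true := by decide +kernel

theorem labQ_part12 : ∀ q, 98208 ≤ q → q < 106392 → labQ q = true := by
  have h : ∀ i < 24, rangeK labQ (Nat.mul (288 + i) 341) 341 = true := by
    intro i hi
    interval_cases i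
    · exact labQ_288
    · exact labQ_289
    · exact labQ_290
    · exact labQ_291
    · exact labQ_292
    · exact labQ_293
    · exact labQ_294
    · exact labQ_295
    · exact labQ_296
    · exact labQ_297
    · exact labQ_298
    · exact labQ_299
    · exact labQ_300
    · exact labQ_301
    · exact labQ_302
    · exact labQ_303
    · exact labQ_304
    · exact labQ_305
    · exact labQ_306
    · exact labQ_307
    · exact labQ_308
    · exact labQ_309
    · exact labQ_310
    · exact labQ_311
  exact cover_part labQ 288 341 24 (by norm_num) h

end Cfsg.Agent.Lib.helper17.ONM
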