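import Cfsg.Agent.Lib.helper17.ONM.Cover.Lab

set_option autoImplicit false

/-! Part 13 of the test of the labels (generated, helper17) -/

namespace Cfsg.Agent.Lib.helper17.ONM

open Cfsg.Agent.Lib.Helper12.TC Cfsg.Agent.Lib.helper17.OnOut

theorem labQ_312 : rangeK labQ (Nat.mul 312 341) 341 = true := by decide +kernel

theorem labQ_313 : rangeK labQ (Nat.mul 313 341) 341 = true := by decide +kernel

theorem labQ_314 : rangeK labQ (Nat.mul 314 341) 341 = true := by decide +kernel

theorem labQ_315 : rangeK labQ (Nat.mul 315 341) 341 = true := by decide +kernel

theorem labQ_316 : rangeK labQ (Nat.mul 316 341) 341 = true := by decide +kernel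

theorem labQ_317 : rangeK labQ (Nat.mul 317 341) 341 = true := by decide +kernel

theorem labQ_318 : rangeK labQ (Nat.mul 318 341) 341 = true := by decide +kernel

theorem labQ_319 : rangeK labQ (Nat.mul 319 341) 341 = true := by decide +kernel

theorem labQ_320 : rangeK labQ (Nat.mul 320 341) 341 = true := by decide +kernel

theorem labQ_321 : rangeK labQ (Nat.mul 321 341) 341 = true := by decide +kernel

theorem labQ_322 : rangeK labQ (Nat.mul 322 341) 341 = true := by decide +kernel

theorem labQ_323 : rangeK labQ (Nat.mul 323 341) 341 = true := by decide +kernel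

theorem labQ_324 : rangeK labQ (Nat.mul 324 341) 341 = true := by decide +kernel

theorem labQ_325 : rangeK labQ (Nat.mul 325 341) 341 = true := by decide +kernel

theorem labQ_326 : rangeK labQ (Nat.mul 326 341) 341 = true := by decide +kernel

theorem labQ_327 : rangeK labQ (Nat.mul 327 341) 341 = true := by decide +kernel

theorem labQ_328 : rangeK labQ (Nat.mul 328 341) 341 = true := by decide +kernel

theorem labQ_329 : rangeK labQ (Nat.mul 329 341) 341 = true := by decide +kernel

theorem labQ_330 : rangeK labQ (Nat.mul 330 341) 341 = true := by decide +kernel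

theorem labQ_331 : rangeK labQ (Nat.mul 331 341) 341 = true := by decide +kernel

theorem labQ_332 : rangeK labQ (Nat.mul 332 341) 341 = true := by decide +kernel

theorem labQ_333 : rangeK labQ (Nat.mul 333 341) 341 = true := by decide +kernel

theorem labQ_334 : rangeK labQ (Nat.mul 334 341) 341 = true := by decide +kernel

theorem labQ_335 : rangeK labQ (Nat.mul 335 341) 341 = true := by decide +kernel

theorem labQ_part13 : ∀ q, 106392 ≤ q → q < 114576 → labQ q = true := by
  have h : ∀ i < 24, rangeK labQ (Nat.mul (312 + i) 341) 341 = true := by
    intro i hi
    interval_cases i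
    · exact labQ_312
    · exact labQ_313
    · exact labQ_314
    · exact labQ_315
    · exact labQ_316
    · exact labQ_317
    · exact labQ_318
    · exact labQ_319
    · exact labQ_320
    · exact labQ_321
    · exact labQ_322
    · exact labQ_323
    · exact labQ_324
    · exact labQ_325
    · exact labQ_326
    · exact labQ_327
    · exact labQ_328
    · exact labQ_329
    · exact labQ_330
    · exact labQ_331
    · exact labQ_332
    · exact labQ_333
    · exact labQ_334
    · exact labQ_335
  exact cover_part labQ 312 341 24 (by norm_num) h

end Cfsg.Agent.Lib.helper17.ONM
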