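import Cfsg.Agent.Lib.helper17.ONM.Cover.Lab

set_option autoImplicit false

/-! Part 14 of the test of the labels (generated, helper17) -/

namespace Cfsg.Agent.Lib.helper17.ONM

open Cfsg.Agent.Lib.Helper12.TC Cfsg.Agent.Lib.helper17.OnOut

theorem labQ_336 : rangeK labQ (Nat.mul 336 341) 341 = true := by decide +kernel

theorem labQ_337 : rangeK labQ (Nat.mul 337 341) 341 = true := by decide +kernel

theorem labQ_338 : rangeK labQ (Nat.mul 338 341) 341 = true := by decide +kernel

theorem labQ_339 : rangeK labQ (Nat.mul 339 341) 341 = true := by decide +kernel

theorem labQ_340 : rangeK labQ (Nat.mul 340 341) 341 = true := by decide +kernel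

theorem labQ_341 : rangeK labQ (Nat.mul 341 341) 341 = true := by decide +kernel

theorem labQ_342 : rangeK labQ (Nat.mul 342 341) 341 = true := by decide +kernel

theorem labQ_343 : rangeK labQ (Nat.mul 343 341) 341 = true := by decide +kernel

theorem labQ_344 : rangeK labQ (Nat.mul 344 341) 341 = true := by decide +kernel

theorem labQ_345 : rangeK labQ (Nat.mul 345 341) 341 = true := by decide +kernel

theorem labQ_346 : rangeK labQ (Nat.mul 346 341) 341 = true := by decide +kernel

theorem labQ_347 : rangeK labQ (Nat.mul 347 341) 341 = true := by decide +kernel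

theorem labQ_348 : rangeK labQ (Nat.mul 348 341) 341 = true := by decide +kernel

theorem labQ_349 : rangeK labQ (Nat.mul 349 341) 341 = true := by decide +kernel

theorem labQ_350 : rangeK labQ (Nat.mul 350 341) 341 = true := by decide +kernel

theorem labQ_351 : rangeK labQ (Nat.mul 351 341) 341 = true := by decide +kernel

theorem labQ_352 : rangeK labQ (Nat.mul 352 341) 341 = true := by decide +kernel

theorem labQ_353 : rangeK labQ (Nat.mul 353 341) 341 = true := by decide +kernel

theorem labQ_354 : rangeK labQ (Nat.mul 354 341) 341 = true := by decide +kernel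

theorem labQ_355 : rangeK labQ (Nat.mul 355 341) 341 = true := by decide +kernel

theorem labQ_356 : rangeK labQ (Nat.mul 356 341) 341 = true := by decide +kernel

theorem labQ_357 : rangeK labQ (Nat.mul 357 341) 341 = true := by decide +kernel

theorem labQ_358 : rangeK labQ (Nat.mul 358 341) 341 = true := by decide +kernel

theorem labQ_359 : rangeK labQ (Nat.mul 359 341) 341 = true := by decide +kernel

theorem labQ_part14 : ∀ q, 114576 ≤ q → q < 122760 → labQ q = true := by
  have h : ∀ i < 24, rangeK labQ (Nat.mul (336 + i) 341) 341 = true := by
    intro i hi
    interval_cases i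
    · exact labQ_336
    · exact labQ_337
    · exact labQ_338
    · exact labQ_339
    · exact labQ_340
    · exact labQ_341
    · exact labQ_342
    · exact labQ_343
    · exact labQ_344
    · exact labQ_345
    · exact labQ_346
    · exact labQ_347
    · exact labQ_348
    · exact labQ_349
    · exact labQ_350
    · exact labQ_351
    · exact labQ_352
    · exact labQ_353
    · exact labQ_354
    · exact labQ_355
    · exact labQ_356
    · exact labQ_357
    · exact labQ_358
    · exact labQ_359
  exact cover_part labQ 336 341 24 (by norm_num) h

end Cfsg.Agent.Lib.helper17.ONM
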