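import Cfsg.Agent.Lib.helper17.ONM.Cover.Lab

set_option autoImplicit false

/-! Part 2 of the test of the labels (generated, helper17) -/

namespace Cfsg.Agent.Lib.helper17.ONM

open Cfsg.Agent.Lib.Helper12.TC Cfsg.Agent.Lib.helper17.OnOut

theorem labQ_48 : rangeK labQ (Nat.mul 48 341) 341 = true := by decide +kernel

theorem labQ_49 : rangeK labQ (Nat.mul 49 341) 341 = true := by decide +kernel

theorem labQ_50 : rangeK labQ (Nat.mul 50 341) 341 = true := by decide +kernel

theorem labQ_51 : rangeK labQ (Nat.mul 51 341) 341 = true := by decide +kernel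

theorem labQ_52 : rangeK labQ (Nat.mul 52 341) 341 = true := by decide +kernel

theorem labQ_53 : rangeK labQ (Nat.mul 53 341) 341 = true := by decide +kernel

theorem labQ_54 : rangeK labQ (Nat.mul 54 341) 341 = true := by decide +kernel

theorem labQ_55 : rangeK labQ (Nat.mul 55 341) 341 = true := by decide +kernel

theorem labQ_56 : rangeK labQ (Nat.mul 56 341) 341 = true := by decide +kernel

theorem labQ_57 : rangeK labQ (Nat.mul 57 341) 341 = true := by decide +kernel

theorem labQ_58 : rangeK labQ (Nat.mul 58 341) 341 = true := by decide +kernel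

theorem labQ_59 : rangeK labQ (Nat.mul 59 341) 341 = true := by decide +kernel

theorem labQ_60 : rangeK labQ (Nat.mul 60 341) 341 = true := by decide +kernel

theorem labQ_61 : rangeK labQ (Nat.mul 61 341) 341 = true := by decide +kernel

theorem labQ_62 : rangeK labQ (Nat.mul 62 341) 341 = true := by decide +kernel

theorem labQ_63 : rangeK labQ (Nat.mul 63 341) 341 = true := by decide +kernel

theorem labQ_64 : rangeK labQ (Nat.mul 64 341) 341 = true := by decide +kernel

theorem labQ_65 : rangeK labQ (Nat.mul 65 341) 341 = true := by decide +kernel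

theorem labQ_66 : rangeK labQ (Nat.mul 66 341) 341 = true := by decide +kernel

theorem labQ_67 : rangeK labQ (Nat.mul 67 341) 341 = true := by decide +kernel

theorem labQ_68 : rangeK labQ (Nat.mul 68 341) 341 = true := by decide +kernel

theorem labQ_69 : rangeK labQ (Nat.mul 69 341) 341 = true := by decide +kernel

theorem labQ_70 : rangeK labQ (Nat.mul 70 341) 341 = true := by decide +kernel

theorem labQ_71 : rangeK labQ (Nat.mul 71 341) 341 = true := by decide +kernel

theorem labQ_part2 : ∀ q, 16368 ≤ q → q < 24552 → labQ q = true := by
  have h : ∀ i < 24, rangeK labQ (Nat.mul (48 + i) 341) 341 = true := by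
    intro i hi
    interval_cases i
    · exact labQ_48
    · exact labQ_49
    · exact labQ_50
    · exact labQ_51
    · exact labQ_52
    · exact labQ_53
    · exact labQ_54
    · exact labQ_55
    · exact labQ_56
    · exact labQ_57
    · exact labQ_58
    · exact labQ_59
    · exact labQ_60
    · exact labQ_61
    · exact labQ_62
    · exact labQ_63
    · exact labQ_64
    · exact labQ_65
    · exact labQ_66
    · exact labQ_67
    · exact labQ_68
    · exact labQ_69
    · exact labQ_70
    · exact labQ_71
  exact cover_part labQ 48 341 24 (by norm_num) h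

end Cfsg.Agent.Lib.helper17.ONM
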