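import Cfsg.Agent.Lib.helper17.ONM.Cover.Lab

set_option autoImplicit false

/-! Part 3 of the test of the labels (generated, helper17) -/

namespace Cfsg.Agent.Lib.helper17.ONM

open Cfsg.Agent.Lib.Helper12.TC Cfsg.Agent.Lib.helper17.OnOut

theorem labQ_72 : rangeK labQ (Nat.mul 72 341) 341 = true := by decide +kernel

theorem labQ_73 : rangeK labQ (Nat.mul 73 341) 341 = true := by decide +kernel

theorem labQ_74 : rangeK labQ (Nat.mul 74 341) 341 = true := by decide +kernel

theorem labQ_75 : rangeK labQ (Nat.mul 75 341) 341 = true := by decide +kernel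

theorem labQ_76 : rangeK labQ (Nat.mul 76 341) 341 = true := by decide +kernel

theorem labQ_77 : rangeK labQ (Nat.mul 77 341) 341 = true := by decide +kernel

theorem labQ_78 : rangeK labQ (Nat.mul 78 341) 341 = true := by decide +kernel

theorem labQ_79 : rangeK labQ (Nat.mul 79 341) 341 = true := by decide +kernel

theorem labQ_80 : rangeK labQ (Nat.mul 80 341) 341 = true := by decide +kernel

theorem labQ_81 : rangeK labQ (Nat.mul 81 341) 341 = true := by decide +kernel

theorem labQ_82 : rangeK labQ (Nat.mul 82 341) 341 = true := by decide +kernel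

theorem labQ_83 : rangeK labQ (Nat.mul 83 341) 341 = true := by decide +kernel

theorem labQ_84 : rangeK labQ (Nat.mul 84 341) 341 = true := by decide +kernel

theorem labQ_85 : rangeK labQ (Nat.mul 85 341) 341 = true := by decide +kernel

theorem labQ_86 : rangeK labQ (Nat.mul 86 341) 341 = true := by decide +kernel

theorem labQ_87 : rangeK labQ (Nat.mul 87 341) 341 = true := by decide +kernel

theorem labQ_88 : rangeK labQ (Nat.mul 88 341) 341 = true := by decide +kernel

theorem labQ_89 : rangeK labQ (Nat.mul 89 341) 341 = true := by decide +kernel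

theorem labQ_90 : rangeK labQ (Nat.mul 90 341) 341 = true := by decide +kernel

theorem labQ_91 : rangeK labQ (Nat.mul 91 341) 341 = true := by decide +kernel

theorem labQ_92 : rangeK labQ (Nat.mul 92 341) 341 = true := by decide +kernel

theorem labQ_93 : rangeK labQ (Nat.mul 93 341) 341 = true := by decide +kernel

theorem labQ_94 : rangeK labQ (Nat.mul 94 341) 341 = true := by decide +kernel

theorem labQ_95 : rangeK labQ (Nat.mul 95 341) 341 = true := by decide +kernel

theorem labQ_part3 : ∀ q, 24552 ≤ q → q < 32736 → labQ q = true := by
  have h : ∀ i < 24, rangeK labQ (Nat.mul (72 + i) 341) 341 = true := by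
    intro i hi
    interval_cases i
    · exact labQ_72
    · exact labQ_73
    · exact labQ_74
    · exact labQ_75
    · exact labQ_76
    · exact labQ_77
    · exact labQ_78
    · exact labQ_79
    · exact labQ_80
    · exact labQ_81
    · exact labQ_82
    · exact labQ_83
    · exact labQ_84
    · exact labQ_85
    · exact labQ_86
    · exact labQ_87
    · exact labQ_88
    · exact labQ_89
    · exact labQ_90
    · exact labQ_91
    · exact labQ_92
    · exact labQ_93
    · exact labQ_94
    · exact labQ_95
  exact cover_part labQ 72 341 24 (by norm_num) h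

end Cfsg.Agent.Lib.helper17.ONM
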