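import Cfsg.Agent.Lib.helper17.ONM.Cover.Lab

set_option autoImplicit false

/-! Part 4 of the test of the labels (generated, helper17) -/

namespace Cfsg.Agent.Lib.helper17.ONM

open Cfsg.Agent.Lib.Helper12.TC Cfsg.Agent.Lib.helper17.OnOut

theorem labQ_96 : rangeK labQ (Nat.mul 96 341) 341 = true := by decide +kernel

theorem labQ_97 : rangeK labQ (Nat.mul 97 341) 341 = true := by decide +kernel

theorem labQ_98 : rangeK labQ (Nat.mul 98 341) 341 = true := by decide +kernel

theorem labQ_99 : rangeK labQ (Nat.mul 99 341) 341 = true := by decide +kernel

theorem labQ_100 : rangeK labQ (Nat.mul 100 341) 341 = true := by decide +kernel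

theorem labQ_101 : rangeK labQ (Nat.mul 101 341) 341 = true := by decide +kernel

theorem labQ_102 : rangeK labQ (Nat.mul 102 341) 341 = true := by decide +kernel

theorem labQ_103 : rangeK labQ (Nat.mul 103 341) 341 = true := by decide +kernel

theorem labQ_104 : rangeK labQ (Nat.mul 104 341) 341 = true := by decide +kernel

theorem labQ_105 : rangeK labQ (Nat.mul 105 341) 341 = true := by decide +kernel

theorem labQ_106 : rangeK labQ (Nat.mul 106 341) 341 = true := by decide +kernel

theorem labQ_107 : rangeK labQ (Nat.mul 107 341) 341 = true := by decide +kernel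

theorem labQ_108 : rangeK labQ (Nat.mul 108 341) 341 = true := by decide +kernel

theorem labQ_109 : rangeK labQ (Nat.mul 109 341) 341 = true := by decide +kernel

theorem labQ_110 : rangeK labQ (Nat.mul 110 341) 341 = true := by decide +kernel

theorem labQ_111 : rangeK labQ (Nat.mul 111 341) 341 = true := by decide +kernel

theorem labQ_112 : rangeK labQ (Nat.mul 112 341) 341 = true := by decide +kernel

theorem labQ_113 : rangeK labQ (Nat.mul 113 341) 341 = true := by decide +kernel

theorem labQ_114 : rangeK labQ (Nat.mul 114 341) 341 = true := by decide +kernel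

theorem labQ_115 : rangeK labQ (Nat.mul 115 341) 341 = true := by decide +kernel

theorem labQ_116 : rangeK labQ (Nat.mul 116 341) 341 = true := by decide +kernel

theorem labQ_117 : rangeK labQ (Nat.mul 117 341) 341 = true := by decide +kernel

theorem labQ_118 : rangeK labQ (Nat.mul 118 341) 341 = true := by decide +kernel

theorem labQ_119 : rangeK labQ (Nat.mul 119 341) 341 = true := by decide +kernel

theorem labQ_part4 : ∀ q, 32736 ≤ q → q < 40920 → labQ q = true := by
  have h : ∀ i < 24, rangeK labQ (Nat.mul (96 + i) 341) 341 = true := by
    intro i hi
    interval_cases i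
    · exact labQ_96
    · exact labQ_97
    · exact labQ_98
    · exact labQ_99
    · exact labQ_100
    · exact labQ_101
    · exact labQ_102
    · exact labQ_103
    · exact labQ_104
    · exact labQ_105
    · exact labQ_106
    · exact labQ_107
    · exact labQ_108
    · exact labQ_109
    · exact labQ_110
    · exact labQ_111
    · exact labQ_112
    · exact labQ_113
    · exact labQ_114
    · exact labQ_115
    · exact labQ_116
    · exact labQ_117
    · exact labQ_118
    · exact labQ_119
  exact cover_part labQ 96 341 24 (by norm_num) h

end Cfsg.Agent.Lib.helper17.ONM
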