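import Cfsg.Agent.Lib.helper17.ONM.Cover.Lab

set_option autoImplicit false

/-! Part 5 of the test of the labels (generated, helper17) -/

namespace Cfsg.Agent.Lib.helper17.ONM

open Cfsg.Agent.Lib.Helper12.TC Cfsg.Agent.Lib.helper17.OnOut

theorem labQ_120 : rangeK labQ (Nat.mul 120 341) 341 = true := by decide +kernel

theorem labQ_121 : rangeK labQ (Nat.mul 121 341) 341 = true := by decide +kernel

theorem labQ_122 : rangeK labQ (Nat.mul 122 341) 341 = true := by decide +kernel

theorem labQ_123 : rangeK labQ (Nat.mul 123 341) 341 = true := by decide +kernel

theorem labQ_124 : rangeK labQ (Nat.mul 124 341) 341 = true := by decide +kernel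

theorem labQ_125 : rangeK labQ (Nat.mul 125 341) 341 = true := by decide +kernel

theorem labQ_126 : rangeK labQ (Nat.mul 126 341) 341 = true := by decide +kernel

theorem labQ_127 : rangeK labQ (Nat.mul 127 341) 341 = true := by decide +kernel

theorem labQ_128 : rangeK labQ (Nat.mul 128 341) 341 = true := by decide +kernel

theorem labQ_129 : rangeK labQ (Nat.mul 129 341) 341 = true := by decide +kernel

theorem labQ_130 : rangeK labQ (Nat.mul 130 341) 341 = true := by decide +kernel

theorem labQ_131 : rangeK labQ (Nat.mul 131 341) 341 = true := by decide +kernel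

theorem labQ_132 : rangeK labQ (Nat.mul 132 341) 341 = true := by decide +kernel

theorem labQ_133 : rangeK labQ (Nat.mul 133 341) 341 = true := by decide +kernel

theorem labQ_134 : rangeK labQ (Nat.mul 134 341) 341 = true := by decide +kernel

theorem labQ_135 : rangeK labQ (Nat.mul 135 341) 341 = true := by decide +kernel

theorem labQ_136 : rangeK labQ (Nat.mul 136 341) 341 = true := by decide +kernel

theorem labQ_137 : rangeK labQ (Nat.mul 137 341) 341 = true := by decide +kernel

theorem labQ_138 : rangeK labQ (Nat.mul 138 341) 341 = true := by decide +kernel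

theorem labQ_139 : rangeK labQ (Nat.mul 139 341) 341 = true := by decide +kernel

theorem labQ_140 : rangeK labQ (Nat.mul 140 341) 341 = true := by decide +kernel

theorem labQ_141 : rangeK labQ (Nat.mul 141 341) 341 = true := by decide +kernel

theorem labQ_142 : rangeK labQ (Nat.mul 142 341) 341 = true := by decide +kernel

theorem labQ_143 : rangeK labQ (Nat.mul 143 341) 341 = true := by decide +kernel

theorem labQ_part5 : ∀ q, 40920 ≤ q → q < 49104 → labQ q = true := by
  have h : ∀ i < 24, rangeK labQ (Nat.mul (120 + i) 341) 341 = true := by
    intro i hi
    interval_cases i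
    · exact labQ_120
    · exact labQ_121
    · exact labQ_122
    · exact labQ_123
    · exact labQ_124
    · exact labQ_125
    · exact labQ_126
    · exact labQ_127
    · exact labQ_128
    · exact labQ_129
    · exact labQ_130
    · exact labQ_131
    · exact labQ_132
    · exact labQ_133
    · exact labQ_134
    · exact labQ_135
    · exact labQ_136
    · exact labQ_137
    · exact labQ_138
    · exact labQ_139
    · exact labQ_140
    · exact labQ_141
    · exact labQ_142
    · exact labQ_143
  exact cover_part labQ 120 341 24 (by norm_num) h

end Cfsg.Agent.Lib.helper17.ONM
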