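import Cfsg.Agent.Lib.helper17.ONM.Cover.Lab

set_option autoImplicit false

/-! Part 6 of the test of the labels (generated, helper17) -/

namespace Cfsg.Agent.Lib.helper17.ONM

open Cfsg.Agent.Lib.Helper12.TC Cfsg.Agent.Lib.helper17.OnOut

theorem labQ_144 : rangeK labQ (Nat.mul 144 341) 341 = true := by decide +kernel

theorem labQ_145 : rangeK labQ (Nat.mul 145 341) 341 = true := by decide +kernel

theorem labQ_146 : rangeK labQ (Nat.mul 146 341) 341 = true := by decide +kernel

theorem labQ_147 : rangeK labQ (Nat.mul 147 341) 341 = true := by decide +kernel

theorem labQ_148 : rangeK labQ (Nat.mul 148 341) 341 = true := by decide +kernel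

theorem labQ_149 : rangeK labQ (Nat.mul 149 341) 341 = true := by decide +kernel

theorem labQ_150 : rangeK labQ (Nat.mul 150 341) 341 = true := by decide +kernel

theorem labQ_151 : rangeK labQ (Nat.mul 151 341) 341 = true := by decide +kernel

theorem labQ_152 : rangeK labQ (Nat.mul 152 341) 341 = true := by decide +kernel

theorem labQ_153 : rangeK labQ (Nat.mul 153 341) 341 = true := by decide +kernel

theorem labQ_154 : rangeK labQ (Nat.mul 154 341) 341 = true := by decide +kernel

theorem labQ_155 : rangeK labQ (Nat.mul 155 341) 341 = true := by decide +kernel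

theorem labQ_156 : rangeK labQ (Nat.mul 156 341) 341 = true := by decide +kernel

theorem labQ_157 : rangeK labQ (Nat.mul 157 341) 341 = true := by decide +kernel

theorem labQ_158 : rangeK labQ (Nat.mul 158 341) 341 = true := by decide +kernel

theorem labQ_159 : rangeK labQ (Nat.mul 159 341) 341 = true := by decide +kernel

theorem labQ_160 : rangeK labQ (Nat.mul 160 341) 341 = true := by decide +kernel

theorem labQ_161 : rangeK labQ (Nat.mul 161 341) 341 = true := by decide +kernel

theorem labQ_162 : rangeK labQ (Nat.mul 162 341) 341 = true := by decide +kernel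

theorem labQ_163 : rangeK labQ (Nat.mul 163 341) 341 = true := by decide +kernel

theorem labQ_164 : rangeK labQ (Nat.mul 164 341) 341 = true := by decide +kernel

theorem labQ_165 : rangeK labQ (Nat.mul 165 341) 341 = true := by decide +kernel

theorem labQ_166 : rangeK labQ (Nat.mul 166 341) 341 = true := by decide +kernel

theorem labQ_167 : rangeK labQ (Nat.mul 167 341) 341 = true := by decide +kernel

theorem labQ_part6 : ∀ q, 49104 ≤ q → q < 57288 → labQ q = true := by
  have h : ∀ i < 24, rangeK labQ (Nat.mul (144 + i) 341) 341 = true := by
    intro i hi
    interval_cases i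
    · exact labQ_144
    · exact labQ_145
    · exact labQ_146
    · exact labQ_147
    · exact labQ_148
    · exact labQ_149
    · exact labQ_150
    · exact labQ_151
    · exact labQ_152
    · exact labQ_153
    · exact labQ_154
    · exact labQ_155
    · exact labQ_156
    · exact labQ_157
    · exact labQ_158
    · exact labQ_159
    · exact labQ_160
    · exact labQ_161
    · exact labQ_162
    · exact labQ_163
    · exact labQ_164
    · exact labQ_165
    · exact labQ_166
    · exact labQ_167
  exact cover_part labQ 144 341 24 (by norm_num) h

end Cfsg.Agent.Lib.helper17.ONM
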