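import Cfsg.Agent.Lib.helper17.ONM.Cover.Lab

set_option autoImplicit false

/-! Part 7 of the test of the labels (generated, helper17) -/

namespace Cfsg.Agent.Lib.helper17.ONM

open Cfsg.Agent.Lib.Helper12.TC Cfsg.Agent.Lib.helper17.OnOut

theorem labQ_168 : rangeK labQ (Nat.mul 168 341) 341 = true := by decide +kernel

theorem labQ_169 : rangeK labQ (Nat.mul 169 341) 341 = true := by decide +kernel

theorem labQ_170 : rangeK labQ (Nat.mul 170 341) 341 = true := by decide +kernel

theorem labQ_171 : rangeK labQ (Nat.mul 171 341) 341 = true := by decide +kernel

theorem labQ_172 : rangeK labQ (Nat.mul 172 341) 341 = true := by decide +kernel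

theorem labQ_173 : rangeK labQ (Nat.mul 173 341) 341 = true := by decide +kernel

theorem labQ_174 : rangeK labQ (Nat.mul 174 341) 341 = true := by decide +kernel

theorem labQ_175 : rangeK labQ (Nat.mul 175 341) 341 = true := by decide +kernel

theorem labQ_176 : rangeK labQ (Nat.mul 176 341) 341 = true := by decide +kernel

theorem labQ_177 : rangeK labQ (Nat.mul 177 341) 341 = true := by decide +kernel

theorem labQ_178 : rangeK labQ (Nat.mul 178 341) 341 = true := by decide +kernel

theorem labQ_179 : rangeK labQ (Nat.mul 179 341) 341 = true := by decide +kernel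

theorem labQ_180 : rangeK labQ (Nat.mul 180 341) 341 = true := by decide +kernel

theorem labQ_181 : rangeK labQ (Nat.mul 181 341) 341 = true := by decide +kernel

theorem labQ_182 : rangeK labQ (Nat.mul 182 341) 341 = true := by decide +kernel

theorem labQ_183 : rangeK labQ (Nat.mul 183 341) 341 = true := by decide +kernel

theorem labQ_184 : rangeK labQ (Nat.mul 184 341) 341 = true := by decide +kernel

theorem labQ_185 : rangeK labQ (Nat.mul 185 341) 341 = true := by decide +kernel

theorem labQ_186 : rangeK labQ (Nat.mul 186 341) 341 = true := by decide +kernel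

theorem labQ_187 : rangeK labQ (Nat.mul 187 341) 341 = true := by decide +kernel

theorem labQ_188 : rangeK labQ (Nat.mul 188 341) 341 = true := by decide +kernel

theorem labQ_189 : rangeK labQ (Nat.mul 189 341) 341 = true := by decide +kernel

theorem labQ_190 : rangeK labQ (Nat.mul 190 341) 341 = true := by decide +kernel

theorem labQ_191 : rangeK labQ (Nat.mul 191 341) 341 = true := by decide +kernel

theorem labQ_part7 : ∀ q, 57288 ≤ q → q < 65472 → labQ q = true := by
  have h : ∀ i < 24, rangeK labQ (Nat.mul (168 + i) 341) 341 = true := by
    intro i hi
    interval_cases i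
    · exact labQ_168
    · exact labQ_169
    · exact labQ_170
    · exact labQ_171
    · exact labQ_172
    · exact labQ_173
    · exact labQ_174
    · exact labQ_175
    · exact labQ_176
    · exact labQ_177
    · exact labQ_178
    · exact labQ_179
    · exact labQ_180
    · exact labQ_181
    · exact labQ_182
    · exact labQ_183
    · exact labQ_184
    · exact labQ_185
    · exact labQ_186
    · exact labQ_187
    · exact labQ_188
    · exact labQ_189
    · exact labQ_190
    · exact labQ_191
  exact cover_part labQ 168 341 24 (by norm_num) h

end Cfsg.Agent.Lib.helper17.ONM
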