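import Cfsg.Agent.Lib.helper17.ONM.Cover.Lab

set_option autoImplicit false

/-! Part 8 of the test of the labels (generated, helper17) -/

namespace Cfsg.Agent.Lib.helper17.ONM

open Cfsg.Agent.Lib.Helper12.TC Cfsg.Agent.Lib.helper17.OnOut

theorem labQ_192 : rangeK labQ (Nat.mul 192 341) 341 = true := by decide +kernel

theorem labQ_193 : rangeK labQ (Nat.mul 193 341) 341 = true := by decide +kernel

theorem labQ_194 : rangeK labQ (Nat.mul 194 341) 341 = true := by decide +kernel

theorem labQ_195 : rangeK labQ (Nat.mul 195 341) 341 = true := by decide +kernel

theorem labQ_196 : rangeK labQ (Nat.mul 196 341) 341 = true := by decide +kernel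

theorem labQ_197 : rangeK labQ (Nat.mul 197 341) 341 = true := by decide +kernel

theorem labQ_198 : rangeK labQ (Nat.mul 198 341) 341 = true := by decide +kernel

theorem labQ_199 : rangeK labQ (Nat.mul 199 341) 341 = true := by decide +kernel

theorem labQ_200 : rangeK labQ (Nat.mul 200 341) 341 = true := by decide +kernel

theorem labQ_201 : rangeK labQ (Nat.mul 201 341) 341 = true := by decide +kernel

theorem labQ_202 : rangeK labQ (Nat.mul 202 341) 341 = true := by decide +kernel

theorem labQ_203 : rangeK labQ (Nat.mul 203 341) 341 = true := by decide +kernel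

theorem labQ_204 : rangeK labQ (Nat.mul 204 341) 341 = true := by decide +kernel

theorem labQ_205 : rangeK labQ (Nat.mul 205 341) 341 = true := by decide +kernel

theorem labQ_206 : rangeK labQ (Nat.mul 206 341) 341 = true := by decide +kernel

theorem labQ_207 : rangeK labQ (Nat.mul 207 341) 341 = true := by decide +kernel

theorem labQ_208 : rangeK labQ (Nat.mul 208 341) 341 = true := by decide +kernel

theorem labQ_209 : rangeK labQ (Nat.mul 209 341) 341 = true := by decide +kernel

theorem labQ_210 : rangeK labQ (Nat.mul 210 341) 341 = true := by decide +kernel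

theorem labQ_211 : rangeK labQ (Nat.mul 211 341) 341 = true := by decide +kernel

theorem labQ_212 : rangeK labQ (Nat.mul 212 341) 341 = true := by decide +kernel

theorem labQ_213 : rangeK labQ (Nat.mul 213 341) 341 = true := by decide +kernel

theorem labQ_214 : rangeK labQ (Nat.mul 214 341) 341 = true := by decide +kernel

theorem labQ_215 : rangeK labQ (Nat.mul 215 341) 341 = true := by decide +kernel

theorem labQ_part8 : ∀ q, 65472 ≤ q → q < 73656 → labQ q = true := by
  have h : ∀ i < 24, rangeK labQ (Nat.mul (192 + i) 341) 341 = true := by
    intro i hi
    interval_cases i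
    · exact labQ_192
    · exact labQ_193
    · exact labQ_194
    · exact labQ_195
    · exact labQ_196
    · exact labQ_197
    · exact labQ_198
    · exact labQ_199
    · exact labQ_200
    · exact labQ_201
    · exact labQ_202
    · exact labQ_203
    · exact labQ_204
    · exact labQ_205
    · exact labQ_206
    · exact labQ_207
    · exact labQ_208
    · exact labQ_209
    · exact labQ_210
    · exact labQ_211
    · exact labQ_212
    · exact labQ_213
    · exact labQ_214
    · exact labQ_215
  exact cover_part labQ 192 341 24 (by norm_num) h

end Cfsg.Agent.Lib.helper17.ONM
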