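import Cfsg.Agent.Lib.helper17.ONM.Cover.Lab

set_option autoImplicit false

/-! Part 9 of the test of the labels (generated, helper17) -/

namespace Cfsg.Agent.Lib.helper17.ONM

open Cfsg.Agent.Lib.Helper12.TC Cfsg.Agent.Lib.helper17.OnOut

theorem labQ_216 : rangeK labQ (Nat.mul 216 341) 341 = true := by decide +kernel

theorem labQ_217 : rangeK labQ (Nat.mul 217 341) 341 = true := by decide +kernel

theorem labQ_218 : rangeK labQ (Nat.mul 218 341) 341 = true := by decide +kernel

theorem labQ_219 : rangeK labQ (Nat.mul 219 341) 341 = true := by decide +kernel

theorem labQ_220 : rangeK labQ (Nat.mul 220 341) 341 = true := by decide +kernel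

theorem labQ_221 : rangeK labQ (Nat.mul 221 341) 341 = true := by decide +kernel

theorem labQ_222 : rangeK labQ (Nat.mul 222 341) 341 = true := by decide +kernel

theorem labQ_223 : rangeK labQ (Nat.mul 223 341) 341 = true := by decide +kernel

theorem labQ_224 : rangeK labQ (Nat.mul 224 341) 341 = true := by decide +kernel

theorem labQ_225 : rangeK labQ (Nat.mul 225 341) 341 = true := by decide +kernel

theorem labQ_226 : rangeK labQ (Nat.mul 226 341) 341 = true := by decide +kernel

theorem labQ_227 : rangeK labQ (Nat.mul 227 341) 341 = true := by decide +kernel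

theorem labQ_228 : rangeK labQ (Nat.mul 228 341) 341 = true := by decide +kernel

theorem labQ_229 : rangeK labQ (Nat.mul 229 341) 341 = true := by decide +kernel

theorem labQ_230 : rangeK labQ (Nat.mul 230 341) 341 = true := by decide +kernel

theorem labQ_231 : rangeK labQ (Nat.mul 231 341) 341 = true := by decide +kernel

theorem labQ_232 : rangeK labQ (Nat.mul 232 341) 341 = true := by decide +kernel

theorem labQ_233 : rangeK labQ (Nat.mul 233 341) 341 = true := by decide +kernel

theorem labQ_234 : rangeK labQ (Nat.mul 234 341) 341 = true := by decide +kernel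

theorem labQ_235 : rangeK labQ (Nat.mul 235 341) 341 = true := by decide +kernel

theorem labQ_236 : rangeK labQ (Nat.mul 236 341) 341 = true := by decide +kernel

theorem labQ_237 : rangeK labQ (Nat.mul 237 341) 341 = true := by decide +kernel

theorem labQ_238 : rangeK labQ (Nat.mul 238 341) 341 = true := by decide +kernel

theorem labQ_239 : rangeK labQ (Nat.mul 239 341) 341 = true := by decide +kernel

theorem labQ_part9 : ∀ q, 73656 ≤ q → q < 81840 → labQ q = true := by
  have h : ∀ i < 24, rangeK labQ (Nat.mul (216 + i) 341) 341 = true := by
    intro i hi
    interval_cases i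
    · exact labQ_216
    · exact labQ_217
    · exact labQ_218
    · exact labQ_219
    · exact labQ_220
    · exact labQ_221
    · exact labQ_222
    · exact labQ_223
    · exact labQ_224
    · exact labQ_225
    · exact labQ_226
    · exact labQ_227
    · exact labQ_228
    · exact labQ_229
    · exact labQ_230
    · exact labQ_231
    · exact labQ_232
    · exact labQ_233
    · exact labQ_234
    · exact labQ_235
    · exact labQ_236
    · exact labQ_237
    · exact labQ_238
    · exact labQ_239
  exact cover_part labQ 216 341 24 (by norm_num) h

end Cfsg.Agent.Lib.helper17.ONM
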