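import Cfsg.Agent.Lib.helper17.ONM.Cover.Model
import Cfsg.Agent.Lib.helper17.ONM.Cover.LChkAll

set_option autoImplicit false

namespace Cfsg.Agent.Lib.helper17.ONM

open Cfsg.Spor Cfsg.Agent.Lib.Helper12.TC Cfsg.Agent.Lib.Helper12.TCG
  Cfsg.Agent.Lib.Helper12.TCG.ONx122760 Cfsg.Agent.Lib.helper17.OnOut

theorem words0_sub : ∀ w ∈ words0, w ∈ ONPres.baseL := by decide

theorem words1_sub : ∀ w ∈ words1, w ∈ ONPres.baseL := by decide

theorem lam_words0 : ∀ w ∈ words0, wprod lam w = 1 := by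
  intro w hw
  have h := wprod_lam_of_walk w 0 (by norm_num) (ONPres.hbase w (words0_sub w hw))
    (fun p hp => by rw [add_zero]; exact (labQ_spec (labQ_cover p hp)).1 w hw)
  rwa [pow_zero] at h

theorem lam_words1 : ∀ w ∈ words1, wprod lam w = zet := by
  intro w hw
  have h := wprod_lam_of_walk w 1 (by norm_num) (ONPres.hbase w (words1_sub w hw))
    (fun p hp => (labQ_spec (labQ_cover p hp)).2 w hw)
  rwa [pow_one] at h

theorem lam_sq (s : ℕ) (hs : s < 6) : lam s * lam s = 1 := by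
  have h := lam_words0 [s, s] (by interval_cases s <;> decide)
  rwa [wprod_cons, wprod_cons, wprod_nil, mul_one] at h

theorem lam_67 : lam 6 * lam 7 = 1 := by
  have h := lam_words0 [6, 7] (by decide)
  rwa [wprod_cons, wprod_cons, wprod_nil, mul_one] at h

theorem lam_76 : lam 7 * lam 6 = 1 := by
  have h := lam_words0 [7, 6] (by decide)
  rwa [wprod_cons, wprod_cons, wprod_nil, mul_one] at h

theorem lam_inv : ∀ s < 8, lam (invS ONPres.cIV s) = (lam s)⁻¹ := by
  intro s hs
  interval_cases s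
  · exact eq_inv_of_mul_eq_one_left (lam_sq 0 (by norm_num))
  · exact eq_inv_of_mul_eq_one_left (lam_sq 1 (by norm_num))
  · exact eq_inv_of_mul_eq_one_left (lam_sq 2 (by norm_num))
  · exact eq_inv_of_mul_eq_one_left (lam_sq 3 (by norm_num))
  · exact eq_inv_of_mul_eq_one_left (lam_sq 4 (by norm_num))
  · exact eq_inv_of_mul_eq_one_left (lam_sq 5 (by norm_num))
  · exact eq_inv_of_mul_eq_one_right lam_67
  · exact eq_inv_of_mul_eq_one_right lam_76

/-- the cover of the O'Nan group exists -/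
theorem onm_exists : ∃ (Γ : Type) (_ : Group Γ) (_ : Finite Γ) (σ : Γ →* ON),
    Cfsg.IsStemExtension σ ∧ Nonempty (σ.ker ≃* Multiplicative (ZMod 3)) := by
  obtain ⟨μ, -, hμ⟩ := onm_cov_lift lam zet lam_inv
    (fun b hb => lam_words0 b (by rw [words0_eq]; exact hb))
    (fun b hb => lam_words1 b hb) zet_pow_three (fun s _ => lam_zet s)
  exact onm_cover_exists μ (by rw [hμ]; exact zet_ne_one)

end Cfsg.Agent.Lib.helper17.ONM
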