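import Cfsg.Agent.Lib.helper17.ONM.Cover.Lab

set_option autoImplicit false

/-! Part 0 of the test of the labels (generated, helper17) -/

namespace Cfsg.Agent.Lib.helper17.ONM

open Cfsg.Agent.Lib.Helper12.TC Cfsg.Agent.Lib.helper17.OnOut

theorem labQ_0 : rangeK labQ (Nat.mul 0 341) 341 = true := by decide +kernel

theorem labQ_1 : rangeK labQ (Nat.mul 1 341) 341 = true := by decide +kernel

theorem labQ_2 : rangeK labQ (Nat.mul 2 341) 341 = true := by decide +kernel

theorem labQ_3 : rangeK labQ (Nat.mul 3 341) 341 = true := by decide +kernel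

theorem labQ_4 : rangeK labQ (Nat.mul 4 341) 341 = true := by decide +kernel

theorem labQ_5 : rangeK labQ (Nat.mul 5 341) 341 = true := by decide +kernel

theorem labQ_6 : rangeK labQ (Nat.mul 6 341) 341 = true := by decide +kernel

theorem labQ_7 : rangeK labQ (Nat.mul 7 341) 341 = true := by decide +kernel

theorem labQ_8 : rangeK labQ (Nat.mul 8 341) 341 = true := by decide +kernel

theorem labQ_9 : rangeK labQ (Nat.mul 9 341) 341 = true := by decide +kernel

theorem labQ_10 : rangeK labQ (Nat.mul 10 341) 341 = true := by decide +kernel

theorem labQ_11 : rangeK labQ (Nat.mul 11 341) 341 = true := by decide +kernel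

theorem labQ_12 : rangeK labQ (Nat.mul 12 341) 341 = true := by decide +kernel

theorem labQ_13 : rangeK labQ (Nat.mul 13 341) 341 = true := by decide +kernel

theorem labQ_14 : rangeK labQ (Nat.mul 14 341) 341 = true := by decide +kernel

theorem labQ_15 : rangeK labQ (Nat.mul 15 341) 341 = true := by decide +kernel

theorem labQ_16 : rangeK labQ (Nat.mul 16 341) 341 = true := by decide +kernel

theorem labQ_17 : rangeK labQ (Nat.mul 17 341) 341 = true := by decide +kernel

theorem labQ_18 : rangeK labQ (Nat.mul 18 341) 341 = true := by decide +kernel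

theorem labQ_19 : rangeK labQ (Nat.mul 19 341) 341 = true := by decide +kernel

theorem labQ_20 : rangeK labQ (Nat.mul 20 341) 341 = true := by decide +kernel

theorem labQ_21 : rangeK labQ (Nat.mul 21 341) 341 = true := by decide +kernel

theorem labQ_22 : rangeK labQ (Nat.mul 22 341) 341 = true := by decide +kernel

theorem labQ_23 : rangeK labQ (Nat.mul 23 341) 341 = true := by decide +kernel

theorem labQ_part0 : ∀ q, 0 ≤ q → q < 8184 → labQ q = true := by
  have h : ∀ i < 24, rangeK labQ (Nat.mul (0 + i) 341) 341 = true := by
    intro i hi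
    interval_cases i
    · exact labQ_0
    · exact labQ_1
    · exact labQ_2
    · exact labQ_3
    · exact labQ_4
    · exact labQ_5
    · exact labQ_6
    · exact labQ_7
    · exact labQ_8
    · exact labQ_9
    · exact labQ_10
    · exact labQ_11
    · exact labQ_12
    · exact labQ_13
    · exact labQ_14
    · exact labQ_15
    · exact labQ_16
    · exact labQ_17
    · exact labQ_18
    · exact labQ_19
    · exact labQ_20
    · exact labQ_21
    · exact labQ_22
    · exact labQ_23
  exact cover_part labQ 0 341 24 (by norm_num) h

end Cfsg.Agent.Lib.helper17.ONM
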