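import Cfsg.Agent.Lib.helper17.ONM.Cover.Lab

set_option autoImplicit false

/-! Part 10 of the test of the labels (generated, helper17) -/

namespace Cfsg.Agent.Lib.helper17.ONM

open Cfsg.Agent.Lib.Helper12.TC Cfsg.Agent.Lib.helper17.OnOut

theorem labQ_240 : rangeK labQ (Nat.mul 240 341) 341 = true := by decide +kernel

theorem labQ_241 : rangeK labQ (Nat.mul 241 341) 341 = true := by decide +kernel

theorem labQ_242 : rangeK labQ (Nat.mul 242 341) 341 = true := by decide +kernel

theorem labQ_243 : rangeK labQ (Nat.mul 243 341) 341 = true := by decide +kernel

theorem labQ_244 : rangeK labQ (Nat.mul 244 341) 341 = true := by decide +kernel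

theorem labQ_245 : rangeK labQ (Nat.mul 245 341) 341 = true := by decide +kernel

theorem labQ_246 : rangeK labQ (Nat.mul 246 341) 341 = true := by decide +kernel

theorem labQ_247 : rangeK labQ (Nat.mul 247 341) 341 = true := by decide +kernel

theorem labQ_248 : rangeK labQ (Nat.mul 248 341) 341 = true := by decide +kernel

theorem labQ_249 : rangeK labQ (Nat.mul 249 341) 341 = true := by decide +kernel

theorem labQ_250 : rangeK labQ (Nat.mul 250 341) 341 = true := by decide +kernel

theorem labQ_251 : rangeK labQ (Nat.mul 251 341) 341 = true := by decide +kernel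

theorem labQ_252 : rangeK labQ (Nat.mul 252 341) 341 = true := by decide +kernel

theorem labQ_253 : rangeK labQ (Nat.mul 253 341) 341 = true := by decide +kernel

theorem labQ_254 : rangeK labQ (Nat.mul 254 341) 341 = true := by decide +kernel

theorem labQ_255 : rangeK labQ (Nat.mul 255 341) 341 = true := by decide +kernel

theorem labQ_256 : rangeK labQ (Nat.mul 256 341) 341 = true := by decide +kernel

theorem labQ_257 : rangeK labQ (Nat.mul 257 341) 341 = true := by decide +kernel

theorem labQ_258 : rangeK labQ (Nat.mul 258 341) 341 = true := by decide +kernel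

theorem labQ_259 : rangeK labQ (Nat.mul 259 341) 341 = true := by decide +kernel

theorem labQ_260 : rangeK labQ (Nat.mul 260 341) 341 = true := by decide +kernel

theorem labQ_261 : rangeK labQ (Nat.mul 261 341) 341 = true := by decide +kernel

theorem labQ_262 : rangeK labQ (Nat.mul 262 341) 341 = true := by decide +kernel

theorem labQ_263 : rangeK labQ (Nat.mul 263 341) 341 = true := by decide +kernel

theorem labQ_part10 : ∀ q, 81840 ≤ q → q < 90024 → labQ q = true := by
  have h : ∀ i < 24, rangeK labQ (Nat.mul (240 + i) 341) 341 = true := by
    intro i hi
    interval_cases i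
    · exact labQ_240
    · exact labQ_241
    · exact labQ_242
    · exact labQ_243
    · exact labQ_244
    · exact labQ_245
    · exact labQ_246
    · exact labQ_247
    · exact labQ_248
    · exact labQ_249
    · exact labQ_250
    · exact labQ_251
    · exact labQ_252
    · exact labQ_253
    · exact labQ_254
    · exact labQ_255
    · exact labQ_256
    · exact labQ_257
    · exact labQ_258
    · exact labQ_259
    · exact labQ_260
    · exact labQ_261
    · exact labQ_262
    · exact labQ_263
  exact cover_part labQ 240 341 24 (by norm_num) h

end Cfsg.Agent.Lib.helper17.ONM
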