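import Cfsg.Agent.Lib.helper17.OnOut.ModelSem
import Cfsg.Agent.Lib.helper17.ONM.Cover.TabL

set_option autoImplicit false

/-! The labels of the letters of the O'Nan group on 122760 points with values in `ZMod 3`, the walk of a word
which adds the labels, and the test that the relators of the cover have the right sums (helper17). -/

namespace Cfsg.Agent.Lib.helper17.ONM

open Cfsg.Spor Cfsg.Agent.Lib.Helper12.TC Cfsg.Agent.Lib.Helper12.TCG
  Cfsg.Agent.Lib.helper17.OnOut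

/-- entry of a table with 14 bits per point, given in blocks of 512 points by the function `sel`; the
point should be given as a numeral -/
def lkL (sel : ℕ → ℕ) (p : ℕ) : ℕ :=
  forceN (Nat.shiftRight p 9) fun j =>
    Nat.land (Nat.shiftRight (sel j) (Nat.mul 14 (Nat.land p 511))) 16383

/-- the label of the letter `s` at the point `p`: from the table for `s < 7`; for the inverse letter `7` the
opposite of the label of `6` at the image -/
noncomputable def lbON (s p : ℕ) : ℕ :=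
  @Bool.rec (fun _ => ℕ)
    (Nat.land (Nat.shiftRight (lkL selL p) (Nat.mul 2 s)) 3)
    (forceN (apON 7 p) fun q =>
      Nat.mod (Nat.sub 3 (Nat.land (Nat.shiftRight (lkL selL q) 12) 3)) 3)
    (Nat.ble 7 s)

/-- one step of the walk: the state `4 * p + a` is the point `p` with the sum `a` of the labels so far -/
noncomputable def stepL (s n : ℕ) : ℕ :=
  forceN (Nat.shiftRight n 2) fun p =>
    Nat.add (Nat.mul 4 (apON s p)) (Nat.mod (Nat.add (Nat.land n 3) (lbON s p)) 3)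

/-- the walk of a word, the head letter acting last -/
noncomputable def evL (w : List ℕ) (n : ℕ) : ℕ :=
  @List.rec ℕ (fun _ => ℕ) n (fun s _ ih => forceN ih fun x => stepL s x) w

theorem evL_nil (n : ℕ) : evL [] n = n := rfl

theorem evL_cons (s : ℕ) (w : List ℕ) (n : ℕ) : evL (s :: w) n = stepL s (evL w n) := by
  show forceN (evL w n) (fun x => stepL s x) = _
  rw [forceN_eq]

theorem stepL_eq (s p a : ℕ) (ha : a < 4) :
    stepL s (4 * p + a) = 4 * apON s p + (a + lbON s p) % 3 := by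
  unfold stepL
  rw [forceN_eq]
  have h1 : Nat.shiftRight (4 * p + a) 2 = p := by
    show (4 * p + a) >>> 2 = p
    rw [Nat.shiftRight_eq_div_pow]
    omega
  have h2 : Nat.land (4 * p + a) 3 = a := by
    show (4 * p + a) &&& 3 = a
    have : (4 * p + a) &&& 3 = (4 * p + a) % 4 := Nat.and_two_pow_sub_one_eq_mod _ 2
    rw [this]
    omega
  rw [h1, h2]
  rfl

/-- the words whose sum of labels is `0`: the Coxeter words, `a f = g^2 = (c d)^4`, `c c^(dgdg)`, `d d^(cgcg)`,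
the letters with their inverses -/
def words0 : List (List ℕ) :=
  [[0, 1, 0, 1, 0, 1],
   [0, 2, 0, 2],
   [1, 2, 1, 2, 1, 2],
   [0, 3, 0, 3],
   [1, 3, 1, 3],
   [2, 3, 2, 3, 2, 3, 2, 3, 2, 3, 2, 3, 2, 3, 2, 3],
   [0, 4, 0, 4],
   [1, 4, 1, 4],
   [2, 4, 2, 4],
   [3, 4, 3, 4, 3, 4],
   [0, 5, 0, 5],
   [1, 5, 1, 5],
   [2, 5, 2, 5],
   [3, 5, 3, 5],
   [4, 5, 4, 5, 4, 5],
   [0, 5, 7, 7],
   [0, 5, 3, 2, 3, 2, 3, 2, 3, 2],
   [2, 7, 3, 7, 3, 2, 3, 6, 3, 6],
   [3, 7, 2, 7, 2, 3, 2, 6, 2, 6],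
   [0, 0],
   [1, 1],
   [2, 2],
   [3, 3],
   [4, 4],
   [5, 5],
   [6, 7],
   [7, 6]]

theorem words0_eq : words0 = coxWords ON.edges ONPres.gen 6 ++ ([[0, 5, 7, 7], [0, 5, 3, 2, 3, 2, 3, 2, 3, 2],
    [2, 7, 3, 7, 3, 2, 3, 6, 3, 6], [3, 7, 2, 7, 2, 3, 2, 6, 2, 6]] ++ ONPres.pairWords) := by decide

/-- the words whose sum of labels is `1` -/
def words1 : List (List ℕ) :=
  [[1, 2, 3, 6, 1, 2, 3, 6, 1, 2, 3, 6, 1, 2, 3, 6, 1, 2, 3, 6],
   [6, 1, 2, 6, 2, 1, 6, 1, 2, 6, 2], [6, 4, 3, 6, 3, 4, 6, 4, 3, 6, 3]]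

/-- the test at the point `p` -/
noncomputable def labQ (p : ℕ) : Bool :=
  forceN (Nat.mul 4 p) fun n =>
    and (allListK words0 (fun w => Nat.beq (evL w n) n))
      (allListK words1 (fun w => Nat.beq (evL w n) (Nat.succ n)))

theorem labQ_spec {p : ℕ} (h : labQ p = true) :
    (∀ w ∈ words0, evL w (4 * p) = 4 * p) ∧ (∀ w ∈ words1, evL w (4 * p) = 4 * p + 1) := by
  unfold labQ at h
  rw [forceN_eq, Bool.and_eq_true] at h
  obtain ⟨h0, h1⟩ := h
  exact ⟨fun w hw => Nat.eq_of_beq_eq_true ((allListK_iff _ _).mp h0 w hw),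
    fun w hw => Nat.eq_of_beq_eq_true ((allListK_iff _ _).mp h1 w hw)⟩

end Cfsg.Agent.Lib.helper17.ONM
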