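import Cfsg.Agent.Lib.helper17.ONM.Cover.Lab
import Cfsg.Agent.Lib.helper17.ONM.Pieces

set_option autoImplicit false

/-! The model of the cover of the O'Nan group on `Fin 122760 × ZMod 3` (helper17). -/

namespace Cfsg.Agent.Lib.helper17.ONM

open Cfsg.Spor Cfsg.Agent.Lib.Helper12.TC Cfsg.Agent.Lib.Helper12.TCG
  Cfsg.Agent.Lib.Helper12.TCG.ONx122760 Cfsg.Agent.Lib.helper17.OnOut

/-- the twisted permutation of a letter -/
noncomputable def lam (s : ℕ) : Equiv.Perm (Fin cN × ZMod 3) where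
  toFun x := (rho (ONPres.v s) x.1, x.2 + ((lbON s x.1.val : ℕ) : ZMod 3))
  invFun x := ((rho (ONPres.v s))⁻¹ x.1,
    x.2 - ((lbON s ((rho (ONPres.v s))⁻¹ x.1).val : ℕ) : ZMod 3))
  left_inv x := by
    apply Prod.ext
    · simp
    · simp
  right_inv x := by
    apply Prod.ext
    · simp
    · simp

theorem lam_apply (s : ℕ) (i : Fin cN) (t : ZMod 3) :
    lam s (i, t) = (rho (ONPres.v s) i, t + ((lbON s i.val : ℕ) : ZMod 3)) := rfl

/-- the shift -/
noncomputable def zet : Equiv.Perm (Fin cN × ZMod 3) where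
  toFun x := (x.1, x.2 + 1)
  invFun x := (x.1, x.2 - 1)
  left_inv x := by simp
  right_inv x := by simp

theorem zet_apply (i : Fin cN) (t : ZMod 3) : zet (i, t) = (i, t + 1) := rfl

theorem zet_pow_three : zet ^ 3 = 1 := by
  apply Equiv.ext
  rintro ⟨i, t⟩
  rw [pow_succ, pow_two, Equiv.Perm.mul_apply, Equiv.Perm.mul_apply, zet_apply, zet_apply, zet_apply,
    Equiv.Perm.one_apply]
  apply Prod.ext
  · rfl
  · show t + 1 + 1 + 1 = t
    have : (1 : ZMod 3) + 1 + 1 = 0 := by decide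
    rw [add_assoc, add_assoc, ← add_assoc 1 1 1, this, add_zero]

theorem zet_ne_one : zet ≠ 1 := by
  intro h
  have h1 := congrArg (fun e : Equiv.Perm (Fin cN × ZMod 3) => e (⟨0, hN0⟩, 0)) h
  simp only [zet_apply, Equiv.Perm.one_apply, Prod.mk.injEq, true_and] at h1
  exact absurd h1 (by decide)

theorem lam_zet (s : ℕ) : lam s * zet = zet * lam s := by
  apply Equiv.ext
  rintro ⟨i, t⟩
  rw [Equiv.Perm.mul_apply, Equiv.Perm.mul_apply, zet_apply, lam_apply, lam_apply, zet_apply]
  apply Prod.ext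
  · rfl
  · show t + 1 + _ = t + _ + 1
    rw [add_right_comm]

/-- the value of a word: the point moves as in the O'Nan group, the second coordinate is translated -/
theorem wprod_lam_exists (w : List ℕ) (i : Fin cN) :
    ∃ c : ZMod 3, ∀ t : ZMod 3, wprod lam w (i, t) = (rho (wprod ONPres.v w) i, t + c) := by
  induction w with
  | nil =>
    refine ⟨0, fun t => ?_⟩
    rw [wprod_nil, wprod_nil, map_one, Equiv.Perm.one_apply, Equiv.Perm.one_apply, add_zero]
  | cons s w ih =>
    obtain ⟨c, hc⟩ := ih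
    refine ⟨c + ((lbON s (rho (wprod ONPres.v w) i).val : ℕ) : ZMod 3), fun t => ?_⟩
    rw [wprod_cons, wprod_cons, Equiv.Perm.mul_apply, hc, lam_apply, map_mul, Equiv.Perm.mul_apply,
      add_assoc]

/-- the walk computes the value of a word -/
theorem evL_sound (w : List ℕ) (i : Fin cN) (a : ℕ) (ha : a < 3) :
    ∃ a' < 3, evL w (4 * i.val + a) = 4 * (rho (wprod ONPres.v w) i).val + a' ∧
      wprod lam w (i, ((a : ℕ) : ZMod 3)) = (rho (wprod ONPres.v w) i, ((a' : ℕ) : ZMod 3)) := by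
  induction w with
  | nil =>
    refine ⟨a, ha, ?_, ?_⟩
    · rw [evL_nil, wprod_nil, map_one, Equiv.Perm.one_apply]
    · rw [wprod_nil, wprod_nil, map_one, Equiv.Perm.one_apply, Equiv.Perm.one_apply]
  | cons s w ih =>
    obtain ⟨a', ha', h1, h2⟩ := ih
    refine ⟨(a' + lbON s (rho (wprod ONPres.v w) i).val) % 3, Nat.mod_lt _ (by norm_num), ?_, ?_⟩
    · rw [evL_cons, h1, stepL_eq _ _ _ (by omega), wprod_cons, map_mul, Equiv.Perm.mul_apply,
        semON s (rho (wprod ONPres.v w) i)]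
    · rw [wprod_cons, Equiv.Perm.mul_apply, h2, lam_apply, wprod_cons, map_mul, Equiv.Perm.mul_apply]
      apply Prod.ext
      · rfl
      · show ((a' : ℕ) : ZMod 3) + _ = _
        rw [ZMod.natCast_mod, Nat.cast_add]

/-- a word of the O'Nan group which is trivial there and whose walk adds `k` everywhere is the `k`-th power of the
shift -/
theorem wprod_lam_of_walk (w : List ℕ) (k : ℕ) (hk : k < 3) (hw : wprod ONPres.v w = 1)
    (hwalk : ∀ p < 122760, evL w (4 * p) = 4 * p + k) : wprod lam w = zet ^ k := by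
  apply Equiv.ext
  rintro ⟨i, t⟩
  obtain ⟨c, hc⟩ := wprod_lam_exists w i
  obtain ⟨a', ha', h1, h2⟩ := evL_sound w i 0 (by norm_num)
  rw [add_zero, hwalk i.val i.isLt, hw, map_one, Equiv.Perm.one_apply] at h1
  have hak : a' = k := by omega
  rw [Nat.cast_zero, hc 0, zero_add, hw, map_one, Equiv.Perm.one_apply, hak] at h2
  have hck : c = ((k : ℕ) : ZMod 3) := (Prod.ext_iff.mp h2).2
  rw [hc t, hw, map_one, Equiv.Perm.one_apply, hck]
  have hz : ∀ (n : ℕ) (t : ZMod 3), (zet ^ n) (i, t) = (i, t + ((n : ℕ) : ZMod 3)) := by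
    intro n
    induction n with
    | zero => intro t; rw [pow_zero, Equiv.Perm.one_apply, Nat.cast_zero, add_zero]
    | succ n ih =>
      intro t
      rw [pow_succ, Equiv.Perm.mul_apply, zet_apply, ih, Nat.cast_succ, add_assoc, add_comm 1]
  rw [hz]

end Cfsg.Agent.Lib.helper17.ONM
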